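import Mathlib
import Cfsg.Agent.Lib.MultC.Cover
import Cfsg.Agent.Lib.MultC.M12.C.Cert
import Cfsg.Agent.Lib.MultC.Pkg
import Cfsg.Agent.Lib.MultC.M12.C.Main

/-! a projective permutation representation (generated) -/

set_option autoImplicit false
set_option maxRecDepth 100000

namespace CfsgLib.MultC.M12.Cov

open CfsgLib.Comput CfsgLib.MultC

open CfsgLib.MultC.M12.C

noncomputable def a0_0 : Net :=
  Net.cons 1 256
  (Net.cons 2 784
  (Net.cons 4 9
  (Net.cons 8 9
  (Net.cons 4 5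
  (Net.cons 2 560
  (Net.cons 1 261
  (Net.nil)))))))

noncomputable def r0 : Net :=
  Net.cons 12 264
  (Net.nil)

noncomputable def y0 : Net := catN r0 (a0_0.widen (ones 12 2))

noncomputable def a2_0 : Net :=
  Net.cons 1 0x450
  (Net.cons 2 256
  (Net.cons 4 5
  (Net.cons 8 5
  (Net.cons 4 1
  (Net.cons 2 51
  (Net.cons 1 81
  (Net.nil)))))))

noncomputable def r2 : Net :=
  Net.cons 12 0xa78
  (Net.nil)

noncomputable def y2 : Net := catN r2 (a2_0.widen (ones 12 2))

noncomputable def a4_0 : Net :=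
  Net.cons 1 64
  (Net.cons 2 16
  (Net.cons 4 12
  (Net.cons 8 12
  (Net.cons 4 8
  (Net.cons 2 786
  (Net.cons 1 336
  (Net.nil)))))))

noncomputable def r4 : Net :=
  Net.cons 12 0xb23
  (Net.nil)

noncomputable def y4 : Net := catN r4 (a4_0.widen (ones 12 2))

noncomputable def a6_0 : Net :=
  Net.cons 1 256
  (Net.cons 2 256
  (Net.cons 4 6
  (Net.cons 8 6
  (Net.cons 4 14
  (Net.cons 1 276
  (Net.nil))))))

noncomputable def r6 : Net :=
  Net.cons 12 408
  (Net.nil)

noncomputable def y6 : Net := catN r6 (a6_0.widen (ones 12 2))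

noncomputable def a8_0 : Net :=
  Net.cons 1 0x404
  (Net.cons 2 800
  (Net.cons 4 9
  (Net.cons 8 13
  (Net.cons 4 11
  (Net.cons 2 816
  (Net.cons 1 276
  (Net.nil)))))))

noncomputable def r8 : Net :=
  Net.cons 12 940
  (Net.nil)

noncomputable def y8 : Net := catN r8 (a8_0.widen (ones 12 2))

noncomputable def a10_0 : Net :=
  Net.cons 1 0x410
  (Net.cons 2 512
  (Net.cons 4 7
  (Net.cons 8 7
  (Net.cons 4 5
  (Net.cons 2 562
  (Net.cons 1 0x510
  (Net.nil)))))))

noncomputable def r10 : Net :=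
  Net.cons 12 706
  (Net.nil)

noncomputable def y10 : Net := catN r10 (a10_0.widen (ones 12 2))

noncomputable def a12_0 : Net :=
  Net.cons 1 16
  (Net.cons 4 5
  (Net.cons 8 15
  (Net.cons 4 5
  (Net.cons 2 258
  (Net.cons 1 0x510
  (Net.nil))))))

noncomputable def r12 : Net :=
  Net.cons 12 795
  (Net.nil)

noncomputable def y12 : Net := catN r12 (a12_0.widen (ones 12 2))

noncomputable def a14_0 : Net :=
  Net.cons 1 84
  (Net.cons 2 16
  (Net.cons 8 6
  (Net.cons 4 4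
  (Net.cons 2 512
  (Net.cons 1 340
  (Net.nil))))))

noncomputable def r14 : Net :=
  Net.cons 12 498
  (Net.nil)

noncomputable def y14 : Net := catN r14 (a14_0.widen (ones 12 2))

noncomputable def a16_0 : Net :=
  Net.cons 1 0x500
  (Net.cons 2 32
  (Net.cons 4 2
  (Net.cons 8 10
  (Net.cons 2 802
  (Net.cons 1 0x440
  (Net.nil))))))

noncomputable def r16 : Net :=
  Net.cons 12 36
  (Net.nil)

noncomputable def y16 : Net := catN r16 (a16_0.widen (ones 12 2))

noncomputable def a18_0 : Net :=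
  Net.cons 1 0x440
  (Net.cons 2 256
  (Net.cons 4 12
  (Net.cons 8 14
  (Net.cons 4 4
  (Net.cons 2 256
  (Net.cons 1 320
  (Net.nil)))))))

noncomputable def r18 : Net :=
  Net.cons 12 33
  (Net.nil)

noncomputable def y18 : Net := catN r18 (a18_0.widen (ones 12 2))

noncomputable def a20_0 : Net :=
  Net.cons 2 32
  (Net.cons 4 4
  (Net.cons 8 12
  (Net.cons 4 6
  (Net.cons 2 32
  (Net.cons 1 256
  (Net.nil))))))

noncomputable def r20 : Net :=
  Net.nil

noncomputable def y20 : Net := catN r20 (a20_0.widen (ones 12 2))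

noncomputable def c0 : Net := Net.cons 12 (Nat.shiftLeft (Nat.pred (Nat.shiftLeft 1 12)) 0) (Net.nil)

noncomputable def Y : List Net := [y0, y0.rev, y2, y2.rev, y4, y4.rev, y6, y6.rev, y8, y8.rev, y10, y10.rev, y12, y12.rev, y14, y14.rev, y16, y16.rev, y18, y18.rev, y20, c0]

def wit : List Wit := [([5, 0x1404, 6, 0x313, 5, 0x1404, 6, 0x313, 5, 0x1404, 6, 0x313], [5, 6, 0x1404, 0x313, 5, 6, 0x1404, 0x313, 5, 6, 0x1404, 0x313], 22)]

theorem Y_ok : allL (Net.ok 24) Y = true := by decide +kernel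
theorem cen_0 : allRg (cenChk (stepT 24 5 Y) (idTab 24 5) [21]) 0 22 = true := by decide +kernel
theorem e_l5_0 : eqAllH (stepT 24 5 Y) (idTab 24 5) (maskOf [21]) L5.eqns [0, 0] = true := by decide +kernel
theorem e_x5_0 : eqAllH (stepT 24 5 Y) (idTab 24 5) (maskOf [21]) X5.eqns [] = true := by decide +kernel
theorem e_l4_0 : eqAllH (stepT 24 5 Y) (idTab 24 5) (maskOf [21]) L4.eqns [0, 0, 0, 0, 0, 0, 0, 0, 0, 0, 0, 0, 0] = true := by decide +kernel
theorem e_x4_0 : eqAllH (stepT 24 5 Y) (idTab 24 5) (maskOf [21]) X4.eqns [0, 0] = true := by decide +kernel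
theorem e_l3_0 : eqAllH (stepT 24 5 Y) (idTab 24 5) (maskOf [21]) L3.eqns [0, 0, 22, 22, 22, 22, 22, 22, 22] = true := by decide +kernel
theorem e_x3_0 : eqAllH (stepT 24 5 Y) (idTab 24 5) (maskOf [21]) X3.eqns [0, 0, 0] = true := by decide +kernel
theorem e_l2_0 : eqAllH (stepT 24 5 Y) (idTab 24 5) (maskOf [21]) L2.eqns [0, 0, 22, 22, 0, 0, 0] = true := by decide +kernel
theorem e_x2_0 : eqAllH (stepT 24 5 Y) (idTab 24 5) (maskOf [21]) X2.eqns [0, 22, 0] = true := by decide +kernel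
theorem e_l1_0 : eqAllH (stepT 24 5 Y) (idTab 24 5) (maskOf [21]) L1.eqns [22, 22, 0, 22, 0, 22, 0, 22, 0] = true := by decide +kernel
theorem e_x1_0 : eqAllH (stepT 24 5 Y) (idTab 24 5) (maskOf [21]) X1.eqns [0, 0, 0] = true := by decide +kernel
theorem e_l0_0 : eqAllH (stepT 24 5 Y) (idTab 24 5) (maskOf [21]) L0.eqns [0, 0, 22, 0, 22, 22, 0, 0, 0] = true := by decide +kernel
theorem e_x0_0 : eqAllH (stepT 24 5 Y) (idTab 24 5) (maskOf [21]) X0.eqns [0, 22, 0] = true := by decide +kernel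
theorem e_xd_0 : eqAllH (stepT 24 5 Y) (idTab 24 5) (maskOf [21]) XD.eqns [0, 0, 22, 0, 0, 0, 22, 0, 22, 0, 22, 0, 0, 0, 22, 0, 0, 0, 0] = true := by decide +kernel
theorem wit_ok : witOK 0x1fffff (stepT 24 5 W) (idTab 24 5) (stepT 24 5 Y) (idTab 24 5) wit = true := by decide +kernel
theorem lb_ok : Nat.ble 2 (lbVal (stepW (stepN Y) (wit.map fun w => w.2.2)) 24 [(0, 2, [1])] []) = true := by
  decide +kernel

theorem wmY : WM (permG 24 Y) (stepT 24 5 Y) (idTab 24 5) := WM.perm Y_ok (by norm_num)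

theorem cen : Cen (permG 24 Y) (maskOf [21]) :=
  cen_perm (K := 5) (T := 22) (by norm_num) Y_ok rfl (allRg_zero cen_0)

theorem low : Low (cl (permG 24 W) top) 2 := by
  have hm := exists_letters W_ok (inA_top E)
  let g : ℕ → cl (permG 24 W) top := fun m => ⟨_, hm m⟩
  have PM : PModel (cl (permG 24 W) top) 24 (finPt 24) := (pModel_perm 24 (by norm_num)).subgroup _
  have hg : ∀ m, Acts 24 (finPt 24) (nth Net.nil W m) (g m) := acts_permG W_ok
  have E1 : Eqs g := eqs_of_WM (PM.wm hg (by norm_num))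
  have E2 : Eqs (fun m => (g m, cen.quo m)) :=
    { l5 := E1.l5.prod (cen.allHold wmY e_l5_0)
      x5 := E1.x5.prod (cen.allHold wmY e_x5_0)
      l4 := E1.l4.prod (cen.allHold wmY e_l4_0)
      x4 := E1.x4.prod (cen.allHold wmY e_x4_0)
      l3 := E1.l3.prod (cen.allHold wmY e_l3_0)
      x3 := E1.x3.prod (cen.allHold wmY e_x3_0)
      l2 := E1.l2.prod (cen.allHold wmY e_l2_0)
      x2 := E1.x2.prod (cen.allHold wmY e_x2_0)
      l1 := E1.l1.prod (cen.allHold wmY e_l1_0)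
      x1 := E1.x1.prod (cen.allHold wmY e_x1_0)
      l0 := E1.l0.prod (cen.allHold wmY e_l0_0)
      x0 := E1.x0.prod (cen.allHold wmY e_x0_0)
      xd := E1.xd.prod (cen.allHold wmY e_xd_0) }
  let _ := fstAction (cl (permG 24 W) top) (cenA (permG 24 Y) (maskOf [21]) ⧸ Subgroup.center _) (Fin 24)
  obtain ⟨ρ, hρ⟩ := exists_hom_of_card (cl_lift hm)
    ((card (sm_prod _ (PM.sm hg)) E2).trans card_perm.symm)
  exact low_of_perm PM hg (by norm_num) (by norm_num) (by norm_num) Y_ok cen ρ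
    (fun m h => hρ _ (inA_top E2 m h)) wit_ok lb_ok

end CfsgLib.MultC.M12.Cov
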