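import Mathlib
import Cfsg.Agent.Lib.MultC.Model

/-! permutation model of degree 24: generators and a stabiliser chain (generated) -/

set_option autoImplicit false
set_option maxRecDepth 100000

namespace CfsgLib.MultC.M12

open CfsgLib.Comput CfsgLib.MultC

noncomputable def u0_0 : Net :=
  Net.cons 1 0x510100
  (Net.cons 2 0x220200
  (Net.cons 4 0x50a00
  (Net.cons 8 75
  (Net.cons 16 107
  (Net.cons 8 99
  (Net.cons 4 0xc0405
  (Net.cons 2 0x222333
  (Net.cons 1 0x440404
  (Net.nil)))))))))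

noncomputable def u0_1 : Net :=
  Net.cons 1 0x401410
  (Net.cons 2 0x321020
  (Net.cons 4 0x90900
  (Net.cons 8 129
  (Net.cons 16 157
  (Net.cons 8 129
  (Net.cons 4 0x20308
  (Net.cons 2 0x21032
  (Net.cons 1 0x110001
  (Net.nil)))))))))

noncomputable def u1_0 : Net :=
  Net.cons 1 0x4554
  (Net.cons 2 0x100310
  (Net.cons 4 0x30a00
  (Net.cons 8 33
  (Net.cons 16 97
  (Net.cons 8 231
  (Net.cons 4 0x90f00
  (Net.cons 2 0x111230
  (Net.cons 1 0x1550
  (Net.nil)))))))))

noncomputable def u1_1 : Net :=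
  Net.cons 1 0x44104
  (Net.cons 2 256
  (Net.cons 4 0x70000
  (Net.cons 8 90
  (Net.cons 16 250
  (Net.cons 8 236
  (Net.cons 4 0xd0802
  (Net.cons 2 0x212110
  (Net.cons 1 0x411500
  (Net.nil)))))))))

noncomputable def u2_0 : Net :=
  Net.cons 1 0x445104
  (Net.cons 2 0x211300
  (Net.cons 4 0x20800
  (Net.cons 8 57
  (Net.cons 16 185
  (Net.cons 8 113
  (Net.cons 4 0x30f00
  (Net.cons 2 0x303312
  (Net.cons 1 0x515004
  (Net.nil)))))))))

noncomputable def u2_1 : Net :=
  Net.cons 1 0x115410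
  (Net.cons 2 0x103020
  (Net.cons 4 0x20000
  (Net.cons 8 53
  (Net.cons 16 181
  (Net.cons 8 81
  (Net.cons 4 0xc0f02
  (Net.cons 2 0x101300
  (Net.cons 1 0x41514
  (Net.nil)))))))))

noncomputable def u3_0 : Net :=
  Net.cons 1 0x444050
  (Net.cons 2 0x11120
  (Net.cons 4 0x20400
  (Net.cons 8 56
  (Net.cons 16 120
  (Net.cons 8 60
  (Net.cons 4 0x30208
  (Net.cons 2 0x31300
  (Net.cons 1 0x45550
  (Net.nil)))))))))

noncomputable def u3_1 : Net :=
  Net.cons 1 0x540040
  (Net.cons 2 0x112200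
  (Net.cons 4 0x10d00
  (Net.cons 8 13
  (Net.cons 16 77
  (Net.cons 8 217
  (Net.cons 4 8
  (Net.cons 2 0x2300
  (Net.cons 1 0x44440
  (Net.nil)))))))))

noncomputable def u4_0 : Net :=
  Net.cons 1 0x10050
  (Net.cons 2 0x332200
  (Net.cons 4 0x50400
  (Net.cons 8 54
  (Net.cons 16 126
  (Net.cons 8 54
  (Net.cons 4 0x70e00
  (Net.cons 2 0x332220
  (Net.cons 1 0x10050
  (Net.nil)))))))))

noncomputable def u4_1 : Net :=
  Net.cons 1 0x54500
  (Net.cons 2 0x102100
  (Net.cons 4 0x10c00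
  (Net.cons 8 15
  (Net.cons 16 15
  (Net.cons 8 223
  (Net.cons 4 0x10c00
  (Net.cons 2 0x102100
  (Net.cons 1 0x154500
  (Net.nil)))))))))

noncomputable def V0 : List Net := [u0_0, u0_1]
noncomputable def U0 : List Net := (V0 ++ revL V0)
noncomputable def V1 : List Net := [u1_0, u1_1]
noncomputable def U1 : List Net := U0 ++ (V1 ++ revL V1)
noncomputable def V2 : List Net := [u2_0, u2_1]
noncomputable def U2 : List Net := U1 ++ (V2 ++ revL V2)
noncomputable def V3 : List Net := [u3_0, u3_1]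
noncomputable def U3 : List Net := U2 ++ (V3 ++ revL V3)
noncomputable def V4 : List Net := [u4_0, u4_1]
noncomputable def U4 : List Net := U3 ++ (V4 ++ revL V4)
noncomputable def U : List Net := U4

theorem v1 : wordsOK 24 5 U0 V1 [[0x3020203020304030401], [0x40403030401]] = true := by decide +kernel
theorem v2 : wordsOK 24 5 U1 V2 [[0x50807080505], [0x5060508]] = true := by decide +kernel
theorem v3 : wordsOK 24 5 U2 V3 [[0xc0b0a0a09], [0x90c0909090a0b]] = true := by decide +kernel
theorem v4 : wordsOK 24 5 U3 V4 [[0xf0e0d10100d], [0xf100f0e0e0d]] = true := by decide +kernel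

theorem realU {G Ω : Type*} [Group G] [MulAction G Ω] {pt : ℕ → Ω} (h : AllReal G 24 pt V0) :
    AllReal G 24 pt U := by
  have h0 : AllReal G 24 pt U0 := h.append h.rev
  have k1 : AllReal G 24 pt V1 := h0.words (by norm_num) v1
  have h1 : AllReal G 24 pt U1 := h0.append (k1.append k1.rev)
  have k2 : AllReal G 24 pt V2 := h1.words (by norm_num) v2
  have h2 : AllReal G 24 pt U2 := h1.append (k2.append k2.rev)
  have k3 : AllReal G 24 pt V3 := h2.words (by norm_num) v3
  have h3 : AllReal G 24 pt U3 := h2.append (k3.append k3.rev)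
  have k4 : AllReal G 24 pt V4 := h3.words (by norm_num) v4
  have h4 : AllReal G 24 pt U4 := h3.append (k4.append k4.rev)
  exact h4

end CfsgLib.MultC.M12
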