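import Mathlib
import Cfsg.Agent.Lib.MultC.M12.Base

/-! multiplier certificate for the prime 2 (generated) -/

set_option autoImplicit false
set_option maxRecDepth 100000

namespace CfsgLib.MultC.M12.P2

open CfsgLib.Comput CfsgLib.MultC

noncomputable def x0 : Net :=
  Net.cons 1 0x450540
  (Net.cons 2 0x30120
  (Net.cons 4 0x70c00
  (Net.cons 8 5
  (Net.cons 16 109
  (Net.cons 8 151
  (Net.cons 4 0x70c00
  (Net.cons 2 0x30120
  (Net.cons 1 0x450540
  (Net.nil)))))))))

noncomputable def x1 : Net :=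
  Net.cons 1 0x54404
  (Net.cons 2 0x22200
  (Net.cons 4 0x80200
  (Net.cons 8 8
  (Net.cons 16 138
  (Net.cons 8 160
  (Net.cons 4 0xe08
  (Net.cons 2 0x22201
  (Net.cons 1 0x154404
  (Net.nil)))))))))

noncomputable def x2 : Net :=
  Net.cons 1 0x551550
  (Net.cons 2 0x331200
  (Net.cons 4 0x40400
  (Net.cons 8 154
  (Net.cons 16 250
  (Net.cons 8 226
  (Net.cons 4 0x3090a
  (Net.cons 2 0x2133
  (Net.cons 1 0x551550
  (Net.nil)))))))))

noncomputable def x3 : Net :=
  Net.cons 1 0x450540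
  (Net.cons 2 0x310210
  (Net.cons 4 0x80000
  (Net.cons 8 196
  (Net.cons 16 222
  (Net.cons 8 77
  (Net.cons 4 0x40c08
  (Net.cons 2 0x330212
  (Net.cons 1 0x450540
  (Net.nil)))))))))

noncomputable def x4 : Net :=
  Net.cons 1 0x515410
  (Net.cons 2 0x320210
  (Net.cons 4 0x40700
  (Net.cons 8 44
  (Net.cons 16 110
  (Net.cons 8 22
  (Net.cons 4 0x40104
  (Net.cons 2 0x320213
  (Net.cons 1 0x454405
  (Net.nil)))))))))

noncomputable def x5 : Net :=
  Net.cons 1 0x515110
  (Net.cons 2 0x221010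
  (Net.cons 4 0x800
  (Net.cons 8 144
  (Net.cons 16 152
  (Net.cons 8 245
  (Net.cons 4 0x20c04
  (Net.cons 2 0x221010
  (Net.cons 1 0x515110
  (Net.nil)))))))))

noncomputable def x6 : Net :=
  Net.cons 1 0x550054
  (Net.cons 2 0x122300
  (Net.cons 4 0xa0800
  (Net.cons 8 3
  (Net.cons 16 227
  (Net.cons 8 146
  (Net.cons 4 0xb0b03
  (Net.cons 2 0x2331
  (Net.cons 1 0x450454
  (Net.nil)))))))))

noncomputable def x7 : Net :=
  Net.cons 1 0x54014
  (Net.cons 2 0x312200
  (Net.cons 4 0x10d00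
  (Net.cons 8 32
  (Net.cons 16 56
  (Net.cons 8 120
  (Net.cons 4 0xa00
  (Net.cons 2 0x303222
  (Net.cons 1 0x550444
  (Net.nil)))))))))

noncomputable def X : List Net := [x0, x1, x2, x3, x4, x5, x6, x7]

def D : Dat := ⟨1, 6, 1,
  0x820820820430c30028208014100280,
  10, 0x810202060408101,
  0x20b8024a0709648,
  0x1111100000, 4⟩

def R0 : List (ℕ × ℕ × ℕ × List ℕ) := [(16, 4, 4, [305]),
  (8, 3, 1, [114]),
  (16, 3, 3, [210]),
  (16, 4, 3, [210, 289]),
  (2, 1, 0, [18, 115, 147]),
  (2, 0, 0, [18, 97, 145]),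
  (8, 3, 2, [130, 291, 323]),
  (8, 2, 2, [130, 273, 321]),
  (16, 0, 0, [162, 241, 321]),
  (16, 1, 1, [178, 257, 321]),
  (16, 2, 2, [194, 273, 321]),
  (4, 1, 1, [66, 177, 225, 321]),
  (4, 2, 1, [66, 195, 227, 307, 323]),
  (8, 2, 0, [241]),
  (8, 2, 1, [209, 257, 307]),
  (4, 1, 0, [129, 161, 211, 305, 321])]
def R1 : List (ℕ × List ℕ × List ℕ × List ℕ) := [(0, [0, 0], [], [3, 145, 338]),
  (0, [2, 2], [], [1, 97, 370]),
  (0, [0, 1], [1, 0], [51, 99, 209]),
  (0, [3, 3], [4], [81, 129, 145, 193, 209, 305, 321, 386, 403]),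
  (0, [1, 1], [], [1, 83, 97, 145, 161, 209, 225, 289, 305, 321, 354]),
  (0, [0, 3], [4, 3, 0], [131, 163, 209, 291, 307, 323, 403]),
  (1, [7, 7], [], [147, 321, 450]),
  (1, [6, 7], [7, 6], [115, 257]),
  (1, [5, 5], [], [3, 33, 177, 225, 305, 321, 418]),
  (1, [8, 8], [9], [1, 17, 33, 97, 145, 227, 466, 483]),
  (1, [5, 6], [7, 6, 5], [19, 179, 323, 451]),
  (1, [6, 8], [9, 8, 6], [19, 147, 179, 483])]

noncomputable def A : LA := ⟨12, [[225, 337, 354, 386, 418, 466, 481], [65, 225, 337, 370, 419, 466, 481], [65, 337, 355, 370], [225, 354, 370, 386, 481], [65], [161]],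
  [[161, 225, 354, 370, 386, 418, 466, 482]], [2],
  Dat.sps R0 ++ (Dat.sps R1),
  [0x22002100002300020320132231020,
  0x12222113301023013130312031330,
  0x22032122200302001100312213210,
  0x3000012203000220223122030,
  0,
  0x30312032101120012220222231223,
  0x3200000000022310133131020,
  0x3200002200022310132231020,
  0x2200002233002230222222002,
  0x22002100002200020320132231020,
  0,
  0x30313213303023031220223300321,
  0x30313231101021022000003322111,
  0x2200002203022130312213010,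
  0x30311031103221032320131113121,
  0x2200002200020123312213022,
  0x2200002200022310132231020,
  0x2200002200000220132231000,
  0x31000,
  48,
  0x2200002200020320132231022],
  [0x12010331001302]⟩

def lv : LB := [(0, 1, [6, 5, 3]), (1, 1, [0x406, 1]), (2, 1, [0x205])]

theorem r0 : D.consAll 12 R0 = true := by decide +kernel
theorem r1 : D.fusAll 12 R1 = true := by decide +kernel
theorem xw : wordsOK 24 5 U X [[0x7080a090e0e1112], [0x202070c0f11], [0x1020a0e1112], [0x3040105060c0c0f1211], [0x202050c0e0d1112], [0x30401050c090e0e111211], [0x403040105090912], [0x6060c090e0d11]] = true := by decide +kernel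
theorem c1_0 : allRg (D.rowChk (stepT 24 5 X) (idTab 24 5)) 0 6 = true := by decide +kernel
theorem c2_0 : allRg (D.fusChk (stepT 24 5 X) (idTab 24 5)) 0 10 = true := by decide +kernel
theorem c3 : lbOK 24 X 6 (2 ^ 6) lv = true := by decide +kernel
theorem c4 : D.basicOK A = true := by decide +kernel
theorem c5_0 : allRg (D.rowOK A) 0 6 = true := by decide +kernel

theorem pb {G : Type*} {Ω : Type*} [Group G] [MulAction G Ω] {pt : ℕ → Ω} (M : PModel G 24 pt)
    (h : AllReal G 24 pt V0) (hG : Nat.card G = 95040) : PBound G 2 [2] :=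
  M.pBound (W := X) (k := 5) (D := D) (A := A) ((realU h).words (by norm_num) xw) (by norm_num) (by norm_num) rfl 1 rfl
    (by decide) rfl (by decide) (allRg_zero c1_0) (allRg_zero c2_0) c3 hG
    (by decide +kernel) ((D.allGood_cons 12 R0 (by norm_num) r0).append (D.allGood_fus 12 R1 (by norm_num) r1)) c4 (allRg_zero c5_0)

end CfsgLib.MultC.M12.P2
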