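import Mathlib
import Cfsg.Agent.Lib.MultC.M12.Base

/-! multiplier certificate for the prime 3 (generated) -/

set_option autoImplicit false
set_option maxRecDepth 100000

namespace CfsgLib.MultC.M12.P3

open CfsgLib.Comput CfsgLib.MultC

noncomputable def x0 : Net :=
  Net.cons 1 0x104004
  (Net.cons 2 0x110000
  (Net.cons 4 0x50600
  (Net.cons 8 12
  (Net.cons 16 124
  (Net.cons 8 30
  (Net.cons 4 0x50604
  (Net.cons 2 0x210002
  (Net.cons 1 0x404404
  (Net.nil)))))))))

noncomputable def x1 : Net :=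
  Net.cons 1 0x40514
  (Net.cons 2 0x310230
  (Net.cons 4 0x400
  (Net.cons 8 192
  (Net.cons 16 196
  (Net.cons 8 243
  (Net.cons 4 0x1020a
  (Net.cons 2 0x120202
  (Net.cons 1 0x11444
  (Net.nil)))))))))

noncomputable def x2 : Net :=
  Net.cons 1 0x50050
  (Net.cons 2 0x10100
  (Net.cons 4 0xe0000
  (Net.cons 8 33
  (Net.cons 16 241
  (Net.cons 8 97
  (Net.cons 4 0xe000a
  (Net.cons 2 0x110122
  (Net.cons 1 0x51454
  (Net.nil)))))))))

noncomputable def x3 : Net :=
  Net.cons 1 0x515110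
  (Net.cons 2 0x221010
  (Net.cons 4 0x800
  (Net.cons 8 144
  (Net.cons 16 152
  (Net.cons 8 245
  (Net.cons 4 0x20c04
  (Net.cons 2 0x221010
  (Net.cons 1 0x515110
  (Net.nil)))))))))

noncomputable def X : List Net := [x0, x1, x2, x3]

def D : Dat := ⟨2, 3, 2,
  0x10400500,
  3, 0x10101,
  0x10202,
  0, 3⟩

def R0 : List (ℕ × ℕ × ℕ × List ℕ) := [(8, 1, 0, [82])]
def R1 : List (ℕ × List ℕ × List ℕ × List ℕ) := [(0, [0, 0, 0], [], [1]),
  (0, [1, 1, 1], [], [33]),
  (0, [0, 2], [2, 0], [49]),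
  (0, [1, 2], [2, 1], [65])]

noncomputable def A : LA := ⟨8, [[97], [113], [17]],
  [], [],
  Dat.sps R0 ++ (Dat.sps R1),
  [32,
  0,
  512,
  0x2000,
  0x20000,
  1],
  []⟩

def lv : LB := [(1, 1, [3, 3, 2, 2]), (0, 1, [0x1020203, 0x1020203])]

theorem r0 : D.consAll 8 R0 = true := by decide +kernel
theorem r1 : D.fusAll 8 R1 = true := by decide +kernel
theorem xw : wordsOK 24 5 U X [[0x60a1211], [0x102010205090a0d12], [0x60c0d0e1112], [0x30401050c090e0e111211]] = true := by decide +kernel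
theorem c1_0 : allRg (D.rowChk (stepT 24 5 X) (idTab 24 5)) 0 3 = true := by decide +kernel
theorem c2_0 : allRg (D.fusChk (stepT 24 5 X) (idTab 24 5)) 0 3 = true := by decide +kernel
theorem c3 : lbOK 24 X 3 (3 ^ 3) lv = true := by decide +kernel
theorem c4 : D.basicOK A = true := by decide +kernel
theorem c5_0 : allRg (D.rowOK A) 0 3 = true := by decide +kernel

theorem pb {G : Type*} {Ω : Type*} [Group G] [MulAction G Ω] {pt : ℕ → Ω} (M : PModel G 24 pt)
    (h : AllReal G 24 pt V0) (hG : Nat.card G = 95040) : PBound G 3 [] :=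
  M.pBound (W := X) (k := 5) (D := D) (A := A) ((realU h).words (by norm_num) xw) (by norm_num) (by norm_num) rfl 0 rfl
    (by decide) rfl (by decide) (allRg_zero c1_0) (allRg_zero c2_0) c3 hG
    (by decide +kernel) ((D.allGood_cons 8 R0 (by norm_num) r0).append (D.allGood_fus 8 R1 (by norm_num) r1)) c4 (allRg_zero c5_0)

end CfsgLib.MultC.M12.P3
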