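import Mathlib
import Cfsg.Agent.Lib.MultC.Out

/-! generated certificate -/

set_option autoImplicit false
set_option maxRecDepth 100000
set_option Elab.async false

namespace CfsgLib.MultC.M12.O

open CfsgLib.Comput CfsgLib.MultC

noncomputable def u0_0 : Net :=
  Net.cons 1 0x401454
  (Net.cons 2 0x221100
  (Net.cons 4 0x10400
  (Net.cons 8 25
  (Net.cons 16 121
  (Net.cons 8 15
  (Net.cons 4 0xa0101
  (Net.cons 2 0x31131
  (Net.cons 1 0x541510
  (Net.nil)))))))))

noncomputable def u0_1 : Net :=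
  Net.cons 1 0x400050
  (Net.cons 2 0x2300
  (Net.cons 4 0xb0800
  (Net.cons 8 3
  (Net.cons 16 215
  (Net.cons 8 15
  (Net.cons 4 0x80002
  (Net.cons 2 0x212312
  (Net.cons 1 0x40410
  (Net.nil)))))))))

noncomputable def u0_2 : Net :=
  Net.cons 1 0x141010
  (Net.cons 2 0x230220
  (Net.cons 4 0x60600
  (Net.cons 8 112
  (Net.cons 16 120
  (Net.cons 8 59
  (Net.cons 4 0x5050c
  (Net.cons 2 0x130110
  (Net.cons 1 0x414545
  (Net.nil)))))))))

noncomputable def u1_0 : Net :=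
  Net.cons 1 0x511150
  (Net.cons 2 0x12130
  (Net.cons 4 0x40400
  (Net.cons 8 23
  (Net.cons 16 87
  (Net.cons 8 194
  (Net.cons 4 0x1010c
  (Net.cons 2 0x212133
  (Net.cons 1 0x415555
  (Net.nil)))))))))

noncomputable def u1_1 : Net :=
  Net.cons 1 0x405504
  (Net.cons 2 0x211220
  (Net.cons 4 0x80000
  (Net.cons 8 87
  (Net.cons 16 247
  (Net.cons 8 94
  (Net.cons 4 0xc0100
  (Net.cons 2 0x20321
  (Net.cons 1 0x501
  (Net.nil)))))))))

noncomputable def u2_0 : Net :=
  Net.cons 1 0x504450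
  (Net.cons 2 0x320210
  (Net.cons 4 0x90700
  (Net.cons 8 224
  (Net.cons 16 242
  (Net.cons 8 161
  (Net.cons 4 771
  (Net.cons 2 0x300201
  (Net.cons 1 0x511144
  (Net.nil)))))))))

noncomputable def u2_1 : Net :=
  Net.cons 1 0x550400
  (Net.cons 2 0x220220
  (Net.cons 4 0x90000
  (Net.cons 8 128
  (Net.cons 16 176
  (Net.cons 8 34
  (Net.cons 4 0x5080a
  (Net.cons 2 0x122021
  (Net.cons 1 0x141514
  (Net.nil)))))))))

noncomputable def u3_0 : Net :=
  Net.cons 1 0x540400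
  (Net.cons 2 0x21000
  (Net.cons 4 0x90600
  (Net.cons 8 152
  (Net.cons 16 188
  (Net.cons 8 14
  (Net.cons 4 0x10e00
  (Net.cons 2 0x130003
  (Net.cons 1 0x141004
  (Net.nil)))))))))

noncomputable def u3_1 : Net :=
  Net.cons 1 0x100510
  (Net.cons 2 0x13120
  (Net.cons 4 0x80900
  (Net.cons 8 144
  (Net.cons 16 148
  (Net.cons 8 172
  (Net.cons 4 0x800
  (Net.cons 2 0x333123
  (Net.cons 1 0x401110
  (Net.nil)))))))))

noncomputable def u4_0 : Net :=
  Net.cons 1 0x4114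
  (Net.cons 2 0x111010
  (Net.cons 4 0x40a00
  (Net.cons 8 30
  (Net.cons 16 94
  (Net.cons 8 157
  (Net.cons 4 0x40a06
  (Net.cons 2 0x311031
  (Net.cons 1 0x11105
  (Net.nil)))))))))

noncomputable def u4_1 : Net :=
  Net.cons 1 0x54140
  (Net.cons 2 0x212200
  (Net.cons 4 0x30b00
  (Net.cons 8 22
  (Net.cons 16 118
  (Net.cons 8 14
  (Net.cons 4 0x50c00
  (Net.cons 2 0x202202
  (Net.cons 1 0x544551
  (Net.nil)))))))))

noncomputable def u5_0 : Net :=
  Net.cons 1 0x455154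
  (Net.cons 2 0x11000
  (Net.cons 4 0xc0800
  (Net.cons 8 10
  (Net.cons 16 218
  (Net.cons 8 126
  (Net.cons 4 0xc030c
  (Net.cons 2 0x220101
  (Net.cons 1 0x550554
  (Net.nil)))))))))

noncomputable def sN : Net :=
  Net.cons 1 0x5040
  (Net.cons 2 0x320100
  (Net.cons 4 0x40500
  (Net.cons 8 75
  (Net.cons 16 255
  (Net.cons 8 216
  (Net.cons 4 0x7050f
  (Net.cons 2 0x213202
  (Net.cons 1 0x550515
  (Net.nil)))))))))

noncomputable def s0_0 : ℕ := 0x5335f
noncomputable def V0 : List Net := [u0_0, u0_1, u0_2]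
noncomputable def U0 : List Net := (V0 ++ revL V0)
noncomputable def V1 : List Net := [u1_0, u1_1]
noncomputable def U1 : List Net := U0 ++ (V1 ++ revL V1)
noncomputable def V2 : List Net := [u2_0, u2_1]
noncomputable def U2 : List Net := U1 ++ (V2 ++ revL V2)
noncomputable def V3 : List Net := [u3_0, u3_1]
noncomputable def U3 : List Net := U2 ++ (V3 ++ revL V3)
noncomputable def V4 : List Net := [u4_0, u4_1]
noncomputable def U4 : List Net := U3 ++ (V4 ++ revL V4)
noncomputable def V5 : List Net := [u5_0]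
noncomputable def U5 : List Net := U4 ++ (V5 ++ revL V5)
noncomputable def Wr : List Net := (((((revL V0) ++ (V1 ++ revL V1)) ++ (V2 ++ revL V2)) ++ (V3 ++ revL V3)) ++ (V4 ++ revL V4)) ++ (V5 ++ revL V5)
noncomputable def W : List Net := u0_0 :: u0_1 :: u0_2 :: Wr

noncomputable def lev4 : Lev := (16, 1, [18, 19, 20, 21], 0x3c0000, [])
noncomputable def L4 : List Lev := lev4 :: []
noncomputable def lev3 : Lev := (2, 2, [14, 15, 16, 17], 0x3fc000, [])
noncomputable def L3 : List Lev := lev3 :: L4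
noncomputable def lev2 : Lev := (8, 2, [10, 11, 12, 13], 0x3ffc00, [])
noncomputable def L2 : List Lev := lev2 :: L3
noncomputable def lev1 : Lev := (18, 2, [6, 7, 8, 9], 0x3fffc0, [])
noncomputable def L1 : List Lev := lev1 :: L2
noncomputable def lev0 : Lev := (6, 1, [0, 1, 2, 3, 4, 5], 0x3fffff, [s0_0])
noncomputable def L0 : List Lev := lev0 :: L1
noncomputable def D : OD where
  r := 11
  u := 2
  J := [1, 10]
  K := [0, 0, 3, 4, 1, 2, 2, 1, 4, 3, 0]
  wl := 2
  wt := 2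
  m := 5
  V := [0, 0x30202]
  pa := [1, 4]
  pl := [0, 2, 0x202, 0x505, 5]
  R := [(0x303, 1), (0x30201, 6)]
  P := [6]
  S := [0, 10]
noncomputable def ma : List (ℕ × ℕ) := [(22, 1), (23, 10)]
noncomputable def ml : List (ℕ × ℕ) := [(1, 1), (4, 4)]

end CfsgLib.MultC.M12.O
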