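import Mathlib
import Cfsg.Agent.Lib.MultC.M12.OutD
import Cfsg.Agent.Lib.MultC.M12.OutG0
import Cfsg.Agent.Lib.MultC.M12.OutC0

/-! the outer automorphism group (generated certificate) -/

set_option autoImplicit false
set_option maxRecDepth 100000
set_option Elab.async false

namespace CfsgLib.MultC.M12.O

open CfsgLib.Comput CfsgLib.MultC

open CfsgLib.Fischer

theorem realW {G Ω : Type*} [Group G] [MulAction G Ω] {pt : ℕ → Ω} (h : AllReal G 24 pt V0) :
    AllReal G 24 pt W := by
  have h0 : AllReal G 24 pt U0 := h.append h.rev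
  have k1 : AllReal G 24 pt V1 := h0.words (by norm_num) v1
  have h1 : AllReal G 24 pt U1 := h0.append (k1.append k1.rev)
  have k2 : AllReal G 24 pt V2 := h1.words (by norm_num) v2
  have h2 : AllReal G 24 pt U2 := h1.append (k2.append k2.rev)
  have k3 : AllReal G 24 pt V3 := h2.words (by norm_num) v3
  have h3 : AllReal G 24 pt U3 := h2.append (k3.append k3.rev)
  have k4 : AllReal G 24 pt V4 := h3.words (by norm_num) v4
  have h4 : AllReal G 24 pt U4 := h3.append (k4.append k4.rev)
  have k5 : AllReal G 24 pt V5 := h4.words (by norm_num) v5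
  have h5 : AllReal G 24 pt U5 := h4.append (k5.append k5.rev)
  exact AllReal.append h (W' := Wr) (AllReal.append (AllReal.append (AllReal.append (AllReal.append (AllReal.append h.rev (k1.append k1.rev)) (k2.append k2.rev)) (k3.append k3.rev)) (k4.append k4.rev)) (k5.append k5.rev))

theorem sets : setsOK (stepH W) 24 L0 = true :=
  setsOK_cons lv0 (setsOK_cons lv1 (setsOK_cons lv2 (setsOK_cons lv3 (setsOK_cons lv4 (rfl)))))

theorem om {G Ω : Type*} [Group G] [MulAction G Ω] {pt : ℕ → Ω} (M : PModel G 24 pt)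
    (h : AllReal G 24 pt CfsgLib.MultC.M12.V0) (hG : Nat.card G = 95040) :
    Nat.card (Cfsg.Out G) = Nat.card (Cfsg.Out (PW 24 W)) ∧ ∃ g, OM 24 W 95040 L0 g := by
  have h1 := CfsgLib.MultC.M12.realU h
  exact exists_om M (W := W) rfl hG (by norm_num) (AllReal.cons (h1.word (by norm_num) g0) (AllReal.cons (h1.word (by norm_num) g1)
    (AllReal.cons (h1.word (by norm_num) g2) AllReal.nil))) realW lb sets

theorem le {g : ℕ → PW 24 W} (O : OM 24 W 95040 L0 g) : Nat.card (Cfsg.Out (PW 24 W)) ≤ 2 :=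
  O.card_le D (show Nat.Prime 11 by norm_num) (show ¬ 11 ^ 2 ∣ _ by norm_num) (show Nat.Coprime 2 11 by norm_num)
    hl hb a0 a1 ca1 l1 cl2 (lt_step (lt_nil _) cand0) (by decide +kernel)

theorem out {G Ω : Type*} [Group G] [MulAction G Ω] {pt : ℕ → Ω} (M : PModel G 24 pt)
    (h : AllReal G 24 pt CfsgLib.MultC.M12.V0) (hG : Nat.card G = 95040) : Nat.card (Cfsg.Out G) = 2 := by
  obtain ⟨e, g, O⟩ := om M h hG
  exact e.trans (le_antisymm (le O) (O.two_le D hl l1 cl2 (by norm_num) sok n0 n1 n2 (lt_step (lt_nil _) ni0) (by decide +kernel)))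

end CfsgLib.MultC.M12.O
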